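import Groth.Agent.Lib.Helper48.InvGen
import Groth.Prelude.Def_MeroSh

/-!
# The invertible module attached to a unit cocycle (helper50)

ns `Groth.Agent.Lib.Pic.Cocycle`.  For an open cover `U i` and units `η i j` on `U i ⊓ U j` with
`η i k = η i j * η j k`, the sheaf `L` of families of germs `f y ∈ O_{X,y}` that are locally of the form
`g_y * η_{i, c(y)}` (`c` a choice of index containing each point) is invertible, with generators
`s i = (η_{i, c(y)})_y` over `U i` satisfying `s i = η i j • s j`.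
-/

set_option autoImplicit false
universe u

open AlgebraicGeometry CategoryTheory TopologicalSpace Opposite

namespace Groth.Agent.Lib.Pic.Cocycle

variable {X : Scheme.{u}} {ι : Type u} (U : ι → X.Opens)
  (η : ∀ i j : ι, (Γ(X, U i ⊓ U j))ˣ)

/-- the germ of `η i j` at a point of `U i ⊓ U j` -/
noncomputable def gη (i j : ι) (y : X) (hy : y ∈ U i ⊓ U j) : X.presheaf.stalk y :=
  X.presheaf.germ (U i ⊓ U j) y hy (η i j : Γ(X, U i ⊓ U j))

lemma isUnit_gη (i j : ι) (y : X) (hy : y ∈ U i ⊓ U j) : IsUnit (gη U η i j y hy) :=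
  (η i j).isUnit.map (X.presheaf.germ (U i ⊓ U j) y hy).hom

/-- the cocycle condition -/
def IsCocycle : Prop := ∀ i j k : ι,
  X.presheaf.map (homOfLE (inf_le_inf_right (U k) inf_le_left : U i ⊓ U j ⊓ U k ≤ U i ⊓ U k)).op
      (η i k : Γ(X, U i ⊓ U k)) =
    X.presheaf.map (homOfLE (inf_le_left : U i ⊓ U j ⊓ U k ≤ U i ⊓ U j)).op (η i j : Γ(X, U i ⊓ U j)) *
      X.presheaf.map (homOfLE (inf_le_inf_right (U k) inf_le_right : U i ⊓ U j ⊓ U k ≤ U j ⊓ U k)).op
        (η j k : Γ(X, U j ⊓ U k))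

variable {U η}

lemma gη_mul (hη : IsCocycle U η) (i j k : ι) (y : X) (hi : y ∈ U i) (hj : y ∈ U j) (hk : y ∈ U k) :
    gη U η i k y ⟨hi, hk⟩ = gη U η i j y ⟨hi, hj⟩ * gη U η j k y ⟨hj, hk⟩ := by
  have h := congrArg (X.presheaf.germ (U i ⊓ U j ⊓ U k) y ⟨⟨hi, hj⟩, hk⟩) (hη i j k)
  rw [map_mul, TopCat.Presheaf.germ_res_apply, TopCat.Presheaf.germ_res_apply,
    TopCat.Presheaf.germ_res_apply] at h
  exact h


variable (U η) (c : X → ι) (hc : ∀ x, x ∈ U (c x))

/-- admissible families of germs -/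
def IsAdm {V : X.Opens} (f : ∀ x : V, X.presheaf.stalk x.1) : Prop :=
  ∀ x : V, ∃ (W : X.Opens) (_ : x.1 ∈ W) (hWV : W ≤ V) (i : ι) (hWi : W ≤ U i) (g : Γ(X, W)),
    ∀ y : W, f ⟨y.1, hWV y.2⟩ =
      X.presheaf.germ W y.1 y.2 g * gη U η i (c y.1) y.1 ⟨hWi y.2, hc y.1⟩

/-- the local predicate -/
def cocLoc : TopCat.LocalPredicate (fun x : X => X.presheaf.stalk x) where
  pred {V} f := IsAdm U η c hc f
  res {V' V} i f h := fun x => by
    obtain ⟨W, hxW, hWV, k, hWk, g, hg⟩ := h ⟨x.1, i.le x.2⟩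
    refine ⟨W ⊓ V', ⟨hxW, x.2⟩, inf_le_right, k, inf_le_left.trans hWk,
      X.presheaf.map (homOfLE (inf_le_left : W ⊓ V' ≤ W)).op g, fun y => ?_⟩
    have e := hg ⟨y.1, y.2.1⟩
    rw [TopCat.Presheaf.germ_res_apply]
    exact e
  locality {V} f h := fun x => by
    obtain ⟨V', hxV', i', h'⟩ := h x
    obtain ⟨W, hxW, hWV', k, hWk, g, hg⟩ := h' ⟨x.1, hxV'⟩
    exact ⟨W, hxW, hWV'.trans i'.le, k, hWk, g, fun y => hg y⟩


variable {U η c hc}

theorem cocLoc_zero (V : X.Opens) :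
    (cocLoc U η c hc).pred (0 : ∀ x : V, X.presheaf.stalk x.1) := fun x =>
  ⟨V ⊓ U (c x.1), ⟨x.2, hc x.1⟩, inf_le_left, c x.1, inf_le_right, 0, fun y => by
    rw [map_zero, zero_mul]; rfl⟩

theorem cocLoc_add (hη : IsCocycle U η) (V : X.Opens) (f g : ∀ x : V, X.presheaf.stalk x.1)
    (hf : (cocLoc U η c hc).pred f) (hg : (cocLoc U η c hc).pred g) :
    (cocLoc U η c hc).pred (f + g) := fun x => by
  obtain ⟨W, hxW, hWV, k, hWk, a, ha⟩ := hf x
  obtain ⟨W', hxW', hWV', k', hWk', a', ha'⟩ := hg x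
  have hle : W ⊓ W' ≤ U k' ⊓ U k := fun y hy => ⟨hWk' hy.2, hWk hy.1⟩
  refine ⟨W ⊓ W', ⟨hxW, hxW'⟩, inf_le_left.trans hWV, k, inf_le_left.trans hWk,
    X.presheaf.map (homOfLE (inf_le_left : W ⊓ W' ≤ W)).op a +
      X.presheaf.map (homOfLE (inf_le_right : W ⊓ W' ≤ W')).op a' *
        X.presheaf.map (homOfLE hle).op (η k' k : Γ(X, U k' ⊓ U k)), fun y => ?_⟩
  have e1 := ha ⟨y.1, y.2.1⟩
  have e2 := ha' ⟨y.1, y.2.2⟩
  have e3 := gη_mul hη k' k (c y.1) y.1 (hWk' y.2.2) (hWk y.2.1) (hc y.1)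
  rw [map_add, map_mul, TopCat.Presheaf.germ_res_apply, TopCat.Presheaf.germ_res_apply,
    TopCat.Presheaf.germ_res_apply]
  change f ⟨y.1, _⟩ + g ⟨y.1, _⟩ = _
  rw [e1, e2, e3]
  unfold gη
  ring

theorem cocLoc_smul (V : X.Opens) (r : Γ(X, V)) (f : ∀ x : V, X.presheaf.stalk x.1)
    (hf : (cocLoc U η c hc).pred f) :
    (cocLoc U η c hc).pred fun x => X.presheaf.germ V x.1 x.2 r • f x := fun x => by
  obtain ⟨W, hxW, hWV, k, hWk, a, ha⟩ := hf x
  refine ⟨W, hxW, hWV, k, hWk, X.presheaf.map (homOfLE hWV).op r * a, fun y => ?_⟩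
  have e1 := ha y
  rw [map_mul, TopCat.Presheaf.germ_res_apply]
  change X.presheaf.germ V y.1 (hWV y.2) r • f ⟨y.1, hWV y.2⟩ = _
  rw [e1, smul_eq_mul, mul_assoc]

variable (U η c hc) in
/-- the module predicate instance, given the cocycle condition -/
theorem isModPred (hη : IsCocycle U η) : Mero.IsModPred (cocLoc U η c hc) :=
  ⟨cocLoc_zero, cocLoc_add hη, cocLoc_smul⟩


section Main

variable (U η c hc) (hη : IsCocycle U η)

/-- the module attached to the cocycle -/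
noncomputable def cocMod : X.Modules :=
  haveI := isModPred U η c hc hη
  Mero.modOf (cocLoc U η c hc)

/-- the generating sections -/
noncomputable def sec (i : ι) : Γ(cocMod U η c hc hη, U i) :=
  (⟨fun y => gη U η i (c y.1) y.1 ⟨y.2, hc y.1⟩, fun x =>
    ⟨U i, x.2, le_rfl, i, le_rfl, 1, fun y => by rw [map_one, one_mul]⟩⟩ :
    (TopCat.subpresheafToTypes (cocLoc U η c hc).toPrelocalPredicate).obj (op (U i)))

lemma sec_apply (i : ι) (y : U i) :
    (sec U η c hc hη i).1 y = gη U η i (c y.1) y.1 ⟨y.2, hc y.1⟩ := rfl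

lemma smul_apply {V : X.Opens} (r : Γ(X, V)) (f : Γ(cocMod U η c hc hη, V)) (y : V) :
    (r • f).1 y = X.presheaf.germ V y.1 y.2 r * f.1 y := rfl

lemma map_apply {V V' : X.Opens} (h : V' ≤ V) (f : Γ(cocMod U η c hc hη, V)) (y : V') :
    ((cocMod U η c hc hη).presheaf.map (homOfLE h).op f).1 y = f.1 ⟨y.1, h y.2⟩ := rfl

lemma sec_ext {V : X.Opens} (f g : Γ(cocMod U η c hc hη, V)) (h : ∀ y : V, f.1 y = g.1 y) :
    f = g := Subtype.ext (funext h)


include hη in
theorem sec_transition (i j : ι) :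
    (cocMod U η c hc hη).presheaf.map (homOfLE (inf_le_left : U i ⊓ U j ≤ U i)).op
        (sec U η c hc hη i) =
      (η i j : Γ(X, U i ⊓ U j)) • (cocMod U η c hc hη).presheaf.map
        (homOfLE (inf_le_right : U i ⊓ U j ≤ U j)).op (sec U η c hc hη j) := by
  apply sec_ext
  intro y
  rw [map_apply, smul_apply, map_apply, sec_apply, sec_apply]
  exact gη_mul hη i j (c y.1) y.1 y.2.1 y.2.2 (hc y.1)

theorem bijective_smul_sec (i : ι) (V : X.Opens) (h : V ≤ U i) :
    Function.Bijective (fun r : Γ(X, V) =>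
      r • (cocMod U η c hc hη).presheaf.map (homOfLE h).op (sec U η c hc hη i)) := by
  constructor
  · intro r r' hrr
    apply TopCat.Presheaf.section_ext X.sheaf V
    intro y hy
    have h1 := congrArg (fun f : Γ(cocMod U η c hc hη, V) => f.1 ⟨y, hy⟩) hrr
    simp only [smul_apply, map_apply, sec_apply] at h1
    exact (isUnit_gη U η i (c y) y ⟨h hy, hc y⟩).mul_left_injective h1
  · intro f
    have hf : IsAdm U η c hc f.1 := f.2
    choose W hxW hWV k hWk g hg using hf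
    have hle : ∀ x : V, W x ≤ U (k x) ⊓ U i := fun x y hy => ⟨hWk x hy, h (hWV x hy)⟩
    let a : ∀ x : V, Γ(X, W x) := fun x =>
      g x * X.presheaf.map (homOfLE (hle x)).op (η (k x) i : Γ(X, U (k x) ⊓ U i))
    have ha : ∀ (x : V) (y : W x), X.presheaf.germ (W x) y.1 y.2 (a x) *
        gη U η i (c y.1) y.1 ⟨h (hWV x y.2), hc y.1⟩ = f.1 ⟨y.1, hWV x y.2⟩ := by
      intro x y
      have e1 := hg x y
      have e3 := gη_mul hη (k x) i (c y.1) y.1 (hWk x y.2) (h (hWV x y.2)) (hc y.1)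
      rw [e1, e3]
      change X.presheaf.germ (W x) y.1 y.2 (g x *
        X.presheaf.map (homOfLE (hle x)).op (η (k x) i : Γ(X, U (k x) ⊓ U i))) * _ = _
      rw [map_mul, TopCat.Presheaf.germ_res_apply]
      unfold gη
      ring
    have hcompat : TopCat.Presheaf.IsCompatible X.sheaf.1 W a := by
      intro x x'
      have hloc : ∀ (z : X) (hz : z ∈ W x ⊓ W x'),
          X.presheaf.germ (W x ⊓ W x') z hz
            (X.presheaf.map (Opens.infLELeft (W x) (W x')).op (a x)) =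
          X.presheaf.germ (W x ⊓ W x') z hz
            (X.presheaf.map (Opens.infLERight (W x) (W x')).op (a x')) := by
        intro z hz
        rw [TopCat.Presheaf.germ_res_apply, TopCat.Presheaf.germ_res_apply]
        have e1 := ha x ⟨z, hz.1⟩
        have e2 := ha x' ⟨z, hz.2⟩
        exact (isUnit_gη U η i (c z) z ⟨h (hWV x hz.1), hc z⟩).mul_left_injective
          (e1.trans e2.symm)
      exact TopCat.Presheaf.section_ext X.sheaf _ _ _ hloc
    have hcov : V ≤ iSup W := fun z hz => Opens.mem_iSup.mpr ⟨⟨z, hz⟩, hxW ⟨z, hz⟩⟩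
    obtain ⟨r, hr, -⟩ := X.sheaf.existsUnique_gluing' W V (fun x => homOfLE (hWV x)) hcov a hcompat
    refine ⟨r, ?_⟩
    apply sec_ext
    intro y
    rw [smul_apply, map_apply, sec_apply]
    have h1 : X.presheaf.germ V y.1 y.2 r = X.presheaf.germ (W y) y.1 (hxW y) (a y) := by
      rw [← hr y]
      exact (X.presheaf.germ_res_apply (homOfLE (hWV y)) y.1 (hxW y) r).symm
    rw [h1]
    exact ha y ⟨y.1, hxW y⟩

theorem isInvertible_cocMod : PicF.IsInvertible (cocMod U η c hc hη) := by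
  refine Groth.Agent.Lib.Helper48.InvGen.isInvertible_of_isGenerator _ fun x => ?_
  refine ⟨U (c x), hc x, sec U η c hc hη (c x), ?_⟩
  intro V hV
  exact bijective_smul_sec U η c hc hη (c x) V hV

end Main

end Groth.Agent.Lib.Pic.Cocycle
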