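import Groth.Agent.Lib.QCoh.Helper74_GlueFamily

/-!
# Morphisms between modules trivialised on a cover, from a 0-cochain (helper50)

ns `Groth.Agent.Lib.Pic.CocycleHom`.  `L`, `L'` modules with generating sections `s i`, `s' i` over a
cover `U i` (only `L`'s are needed to be free generators), transition functions `η`, `η'`, and
functions `u i` on `U i` with `η' i j * u i = u j * η i j` on overlaps: there is a morphism
`Φ : L ⟶ L'` with `Φ (r • s j) = (r * u j) • s' j` on every open inside `U j` (`exists_hom`).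
-/

set_option autoImplicit false
universe u
open CategoryTheory CategoryTheory.Limits AlgebraicGeometry Opposite TopologicalSpace

namespace Groth.Agent.Lib.Pic.CocycleHom

open Scheme.Modules Groth.Agent.Lib.QCoh Groth.Agent.Lib.QCoh.Glue74

variable {X : Scheme.{u}}

/-- restriction of functions -/
noncomputable abbrev rX {W' W : X.Opens} (h : W' ≤ W) (r : Γ(X, W)) : Γ(X, W') :=
  X.presheaf.map (homOfLE h).op r

lemma rX_rX {W'' W' W : X.Opens} (h' : W'' ≤ W') (h : W' ≤ W) (r : Γ(X, W)) :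
    rX h' (rX h r) = rX (h'.trans h) r := by
  change (X.presheaf.map (homOfLE h).op ≫ X.presheaf.map (homOfLE h').op) r = _
  rw [← Functor.map_comp]
  rfl

lemma rX_mul {W' W : X.Opens} (h : W' ≤ W) (r t : Γ(X, W)) : rX h (r * t) = rX h r * rX h t :=
  map_mul (X.presheaf.map (homOfLE h).op).hom r t

section Data

variable {ι : Type u} (U : ι → X.Opens) (L : X.Modules) (s : ∀ i : ι, Γ(L, U i))
  (η : ∀ i j : ι, Γ(X, U i ⊓ U j))
  (hη : ∀ i j : ι, L.presheaf.map (homOfLE (inf_le_left : U i ⊓ U j ≤ U i)).op (s i) =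
        η i j • L.presheaf.map (homOfLE (inf_le_right : U i ⊓ U j ≤ U j)).op (s j))

include hη in
/-- the transition relation over any open inside `U i ⊓ U j` -/
lemma trans_of_le (i j : ι) {W : X.Opens} (hi : W ≤ U i) (hj : W ≤ U j) :
    res L hi (s i) = rX (le_inf hi hj) (η i j) • res L hj (s j) := by
  have h := congrArg (res L (le_inf hi hj)) (hη i j)
  change res L (le_inf hi hj) (res L inf_le_left (s i)) =
    res L (le_inf hi hj) (η i j • res L inf_le_right (s j)) at h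
  rw [res_res, res_smul, res_res] at h
  exact h

end Data

section Main

variable {ι : Type u} (U : ι → X.Opens) (hU : iSup U = ⊤) (L L' : X.Modules)
  (s : ∀ i : ι, Γ(L, U i)) (s' : ∀ i : ι, Γ(L', U i))
  (hs : ∀ (i : ι) (V : X.Opens) (h : V ≤ U i),
        Function.Bijective (fun r : Γ(X, V) => r • L.presheaf.map (homOfLE h).op (s i)))
  (η η' : ∀ i j : ι, Γ(X, U i ⊓ U j))
  (hη : ∀ i j : ι, L.presheaf.map (homOfLE (inf_le_left : U i ⊓ U j ≤ U i)).op (s i) =
        η i j • L.presheaf.map (homOfLE (inf_le_right : U i ⊓ U j ≤ U j)).op (s j))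
  (hη' : ∀ i j : ι, L'.presheaf.map (homOfLE (inf_le_left : U i ⊓ U j ≤ U i)).op (s' i) =
        η' i j • L'.presheaf.map (homOfLE (inf_le_right : U i ⊓ U j ≤ U j)).op (s' j))
  (u : ∀ i : ι, Γ(X, U i))
  (hu : ∀ i j : ι, η' i j * X.presheaf.map (homOfLE (inf_le_left : U i ⊓ U j ≤ U i)).op (u i) =
        X.presheaf.map (homOfLE (inf_le_right : U i ⊓ U j ≤ U j)).op (u j) * η i j)

include hs hη hη' hu in
/-- independence of the chart -/
lemma chart_indep (i j : ι) {W : X.Opens} (hi : W ≤ U i) (hj : W ≤ U j) (r r' : Γ(X, W))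
    (h : r • res L hi (s i) = r' • res L hj (s j)) :
    (r * rX hi (u i)) • res L' hi (s' i) = (r' * rX hj (u j)) • res L' hj (s' j) := by
  have h1 := trans_of_le U L s η hη i j hi hj
  have h1' := trans_of_le U L' s' η' hη' i j hi hj
  rw [h1, smul_smul] at h
  have h2 : r * rX (le_inf hi hj) (η i j) = r' := (hs j W hj).1 h
  have h3 := congrArg (rX (le_inf hi hj)) (hu i j)
  rw [rX_mul, rX_mul] at h3
  change rX (le_inf hi hj) (η' i j) * rX (le_inf hi hj) (rX inf_le_left (u i)) =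
    rX (le_inf hi hj) (rX inf_le_right (u j)) * rX (le_inf hi hj) (η i j) at h3
  rw [rX_rX, rX_rX] at h3
  rw [h1', smul_smul, ← h2]
  congr 1
  calc r * rX hi (u i) * rX (le_inf hi hj) (η' i j)
      = r * (rX (le_inf hi hj) (η' i j) * rX hi (u i)) := by ring
    _ = r * (rX hj (u j) * rX (le_inf hi hj) (η i j)) := by rw [h3]
    _ = r * rX (le_inf hi hj) (η i j) * rX hj (u j) := by ring

include hU hs hη hη' hu in
/-- the morphism defined by a 0-cochain intertwining the transition functions -/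
theorem exists_hom : ∃ Φ : L ⟶ L', ∀ (j : ι) (W : X.Opens) (hj : W ≤ U j) (r : Γ(X, W)),
    Φ.app W (r • res L hj (s j)) = (r * rX hj (u j)) • res L' hj (s' j) := by
  classical
  let good : X.Opens → Prop := fun W => ∃ i, W ≤ U i
  have hbasis : ∀ (V : X.Opens) (x : X), x ∈ V → ∃ W : X.Opens, good W ∧ x ∈ W ∧ W ≤ V := by
    intro V x hx
    have hx' : x ∈ iSup U := by rw [hU]; trivial
    obtain ⟨i, hi⟩ := Opens.mem_iSup.1 hx'
    exact ⟨V ⊓ U i, ⟨i, inf_le_right⟩, ⟨hx, hi⟩, inf_le_left⟩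
  -- coefficient
  have hcoef : ∀ (W : X.Opens) (hW : good W) (a : Γ(L, W)),
      ∃ r : Γ(X, W), r • res L hW.choose_spec (s hW.choose) = a :=
    fun W hW a => (hs hW.choose W hW.choose_spec).2 a
  choose coef hcoefs using hcoef
  let φ : ∀ W : X.Opens, good W → Γ(L, W) → Γ(L', W) := fun W hW a =>
    (coef W hW a * rX hW.choose_spec (u hW.choose)) • res L' hW.choose_spec (s' hW.choose)
  have hφ : ∀ (W : X.Opens) (hW : good W) (j : ι) (hj : W ≤ U j) (r : Γ(X, W)),
      φ W hW (r • res L hj (s j)) = (r * rX hj (u j)) • res L' hj (s' j) := by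
    intro W hW j hj r
    exact chart_indep U L L' s s' hs η η' hη hη' u hu hW.choose j hW.choose_spec hj _ r
      (hcoefs W hW _)
  have hφa : ∀ (W : X.Opens) (hW : good W) (a : Γ(L, W)), ∃ (j : ι) (hj : W ≤ U j) (r : Γ(X, W)),
      a = r • res L hj (s j) :=
    fun W hW a => ⟨hW.choose, hW.choose_spec, coef W hW a, (hcoefs W hW a).symm⟩
  have H1 : ∀ {W' W : X.Opens} (hW' : good W') (hW : good W) (h : W' ≤ W) (a : Γ(L, W)),
      φ W' hW' (res L h a) = res L' h (φ W hW a) := by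
    intro W' W hW' hW h a
    obtain ⟨j, hj, r, rfl⟩ := hφa W hW a
    rw [hφ W hW j hj r, res_smul, res_res, res_smul, res_res, hφ W' hW' j (h.trans hj)]
    congr 1
    change _ = rX h (r * rX hj (u j))
    rw [rX_mul, rX_rX]
  have H2 : ∀ (W₁ W₂ : X.Opens), good W₁ → good W₂ → ∀ x : X, x ∈ W₁ ⊓ W₂ →
      ∃ W' : X.Opens, good W' ∧ x ∈ W' ∧ W' ≤ W₁ ∧ W' ≤ W₂ := by
    intro W₁ W₂ h1 h2 x hx
    obtain ⟨i, hi⟩ := h1
    exact ⟨W₁ ⊓ W₂, ⟨i, inf_le_left.trans hi⟩, hx, inf_le_left, inf_le_right⟩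
  obtain ⟨ψ, hψn, hψe⟩ := exists_family L L' good hbasis φ (fun W' W => W' ≤ W) (fun h => h)
    (fun hW' hW h a => H1 hW' hW h a) H2
  have hadd : ∀ (V : X.Opens) (a b : Γ(L, V)), ψ V (a + b) = ψ V a + ψ V b := by
    intro V a b
    refine eq_of_good L' good hbasis _ _ fun W hW hWV => ?_
    rw [res_add, ← hψn, ← hψn, ← hψn, res_add, hψe W hW, hψe W hW, hψe W hW]
    obtain ⟨j, hj, r, hr⟩ := hφa W hW (res L hWV a)
    have hb : ∃ r' : Γ(X, W), res L hWV b = r' • res L hj (s j) := by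
      obtain ⟨r', hr'⟩ := (hs j W hj).2 (res L hWV b)
      exact ⟨r', hr'.symm⟩
    obtain ⟨r', hr'⟩ := hb
    rw [hr, hr', ← add_smul, hφ, hφ, hφ, ← add_smul, add_mul]
  have hsmul : ∀ (V : X.Opens) (c : Γ(X, V)) (a : Γ(L, V)), ψ V (c • a) = c • ψ V a := by
    intro V c a
    refine eq_of_good L' good hbasis _ _ fun W hW hWV => ?_
    rw [res_smul, ← hψn, ← hψn, res_smul, hψe W hW, hψe W hW]
    obtain ⟨j, hj, r, hr⟩ := hφa W hW (res L hWV a)
    rw [hr, smul_smul, hφ, hφ, smul_smul, mul_assoc]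
  refine ⟨homOfFamily ψ (fun h a => hψn h a) hadd hsmul, ?_⟩
  intro j W hj r
  rw [homOfFamily_app, hψe W ⟨j, hj⟩, hφ]

end Main

end Groth.Agent.Lib.Pic.CocycleHom
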